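import Cfsg.Agent.Lib.Fischer.M23Recog.Cert.Tables
import Cfsg.Agent.Lib.SporRecognition.Fi22Omega.Presented

/-! Generated certificate for the local structure of type M(23): the mirrored relators. -/

set_option autoImplicit false
set_option maxRecDepth 20000
set_option linter.all false
set_option Elab.async false

namespace CfsgLib.Fischer.M23Recog.Cert

open CfsgLib.SporRecognition.CosetCert
open CfsgLib.SporRecognition.FischerAut
open CfsgLib.SporRecognition.Cert

open CfsgLib.SporRecognition.Fi22Omega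

/-- The mirror of the diagram. -/
def mirrorNode : Cfsg.Spor.Fi22.Gen → Cfsg.Spor.Fi22.Gen
  | .a => .g
  | .b => .f
  | .c => .e
  | .d => .d
  | .e => .c
  | .f => .b
  | .g => .a
  | .h => .h
  | .i => .i

theorem mirrorRel_c0 : allPow 3510 (fun u => W8core.all fun w => Nat.beq (trace (wordTabs Fi22U.tabs (w.map fun x => (mirrorNode x.1, x.2))) u) u) 8 0 = true := by decide +kernel
theorem mirrorRel_c1 : allPow 3510 (fun u => W8core.all fun w => Nat.beq (trace (wordTabs Fi22U.tabs (w.map fun x => (mirrorNode x.1, x.2))) u) u) 8 256 = true := by decide +kernel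
theorem mirrorRel_c2 : allPow 3510 (fun u => W8core.all fun w => Nat.beq (trace (wordTabs Fi22U.tabs (w.map fun x => (mirrorNode x.1, x.2))) u) u) 8 512 = true := by decide +kernel
theorem mirrorRel_c3 : allPow 3510 (fun u => W8core.all fun w => Nat.beq (trace (wordTabs Fi22U.tabs (w.map fun x => (mirrorNode x.1, x.2))) u) u) 8 768 = true := by decide +kernel
theorem mirrorRel_c4 : allPow 3510 (fun u => W8core.all fun w => Nat.beq (trace (wordTabs Fi22U.tabs (w.map fun x => (mirrorNode x.1, x.2))) u) u) 8 1024 = true := by decide +kernel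
theorem mirrorRel_c5 : allPow 3510 (fun u => W8core.all fun w => Nat.beq (trace (wordTabs Fi22U.tabs (w.map fun x => (mirrorNode x.1, x.2))) u) u) 8 1280 = true := by decide +kernel
theorem mirrorRel_c6 : allPow 3510 (fun u => W8core.all fun w => Nat.beq (trace (wordTabs Fi22U.tabs (w.map fun x => (mirrorNode x.1, x.2))) u) u) 8 1536 = true := by decide +kernel
theorem mirrorRel_c7 : allPow 3510 (fun u => W8core.all fun w => Nat.beq (trace (wordTabs Fi22U.tabs (w.map fun x => (mirrorNode x.1, x.2))) u) u) 8 1792 = true := by decide +kernel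
theorem mirrorRel_c8 : allPow 3510 (fun u => W8core.all fun w => Nat.beq (trace (wordTabs Fi22U.tabs (w.map fun x => (mirrorNode x.1, x.2))) u) u) 8 2048 = true := by decide +kernel
theorem mirrorRel_c9 : allPow 3510 (fun u => W8core.all fun w => Nat.beq (trace (wordTabs Fi22U.tabs (w.map fun x => (mirrorNode x.1, x.2))) u) u) 8 2304 = true := by decide +kernel
theorem mirrorRel_c10 : allPow 3510 (fun u => W8core.all fun w => Nat.beq (trace (wordTabs Fi22U.tabs (w.map fun x => (mirrorNode x.1, x.2))) u) u) 8 2560 = true := by decide +kernel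
theorem mirrorRel_c11 : allPow 3510 (fun u => W8core.all fun w => Nat.beq (trace (wordTabs Fi22U.tabs (w.map fun x => (mirrorNode x.1, x.2))) u) u) 8 2816 = true := by decide +kernel
theorem mirrorRel_c12 : allPow 3510 (fun u => W8core.all fun w => Nat.beq (trace (wordTabs Fi22U.tabs (w.map fun x => (mirrorNode x.1, x.2))) u) u) 8 3072 = true := by decide +kernel
theorem mirrorRel_c13 : allPow 3510 (fun u => W8core.all fun w => Nat.beq (trace (wordTabs Fi22U.tabs (w.map fun x => (mirrorNode x.1, x.2))) u) u) 8 3328 = true := by decide +kernel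
theorem mirrorRel_c14 : allPow 3510 (fun u => W8core.all fun w => Nat.beq (trace (wordTabs Fi22U.tabs (w.map fun x => (mirrorNode x.1, x.2))) u) u) 8 3584 = true := by decide +kernel
theorem mirrorRel_c15 : allPow 3510 (fun u => W8core.all fun w => Nat.beq (trace (wordTabs Fi22U.tabs (w.map fun x => (mirrorNode x.1, x.2))) u) u) 8 3840 = true := by decide +kernel
theorem mirrorRel : allBelow 12 3510 (fun u => W8core.all fun w => Nat.beq (trace (wordTabs Fi22U.tabs (w.map fun x => (mirrorNode x.1, x.2))) u) u) = true :=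
  allBelow_of_upto (hi := 4096)
    (Upto.trans (mid := 2048) (Upto.trans (mid := 1024) (Upto.trans (mid := 512) (Upto.trans (mid := 256) ((Upto.of_pow mirrorRel_c0 (Nat.le_refl _)) : Upto _ _ 0 (0 + 2 ^ 8))
    ((Upto.of_pow mirrorRel_c1 (Nat.le_refl _)) : Upto _ _ 256 (256 + 2 ^ 8)))
    (Upto.trans (mid := 768) ((Upto.of_pow mirrorRel_c2 (Nat.le_refl _)) : Upto _ _ 512 (512 + 2 ^ 8))
    ((Upto.of_pow mirrorRel_c3 (Nat.le_refl _)) : Upto _ _ 768 (768 + 2 ^ 8))))
    (Upto.trans (mid := 1536) (Upto.trans (mid := 1280) ((Upto.of_pow mirrorRel_c4 (Nat.le_refl _)) : Upto _ _ 1024 (1024 + 2 ^ 8))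
    ((Upto.of_pow mirrorRel_c5 (Nat.le_refl _)) : Upto _ _ 1280 (1280 + 2 ^ 8)))
    (Upto.trans (mid := 1792) ((Upto.of_pow mirrorRel_c6 (Nat.le_refl _)) : Upto _ _ 1536 (1536 + 2 ^ 8))
    ((Upto.of_pow mirrorRel_c7 (Nat.le_refl _)) : Upto _ _ 1792 (1792 + 2 ^ 8)))))
    (Upto.trans (mid := 3072) (Upto.trans (mid := 2560) (Upto.trans (mid := 2304) ((Upto.of_pow mirrorRel_c8 (Nat.le_refl _)) : Upto _ _ 2048 (2048 + 2 ^ 8))
    ((Upto.of_pow mirrorRel_c9 (Nat.le_refl _)) : Upto _ _ 2304 (2304 + 2 ^ 8)))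
    (Upto.trans (mid := 2816) ((Upto.of_pow mirrorRel_c10 (Nat.le_refl _)) : Upto _ _ 2560 (2560 + 2 ^ 8))
    ((Upto.of_pow mirrorRel_c11 (Nat.le_refl _)) : Upto _ _ 2816 (2816 + 2 ^ 8))))
    (Upto.trans (mid := 3584) (Upto.trans (mid := 3328) ((Upto.of_pow mirrorRel_c12 (Nat.le_refl _)) : Upto _ _ 3072 (3072 + 2 ^ 8))
    ((Upto.of_pow mirrorRel_c13 (Nat.le_refl _)) : Upto _ _ 3328 (3328 + 2 ^ 8)))
    (Upto.trans (mid := 3840) ((Upto.of_pow mirrorRel_c14 (Nat.le_refl _)) : Upto _ _ 3584 (3584 + 2 ^ 8))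
    ((Upto.of_pow mirrorRel_c15 (Nat.le_refl _)) : Upto _ _ 3840 (3840 + 2 ^ 8))))))
    (by decide) (by decide)


end CfsgLib.Fischer.M23Recog.Cert
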