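import Cfsg.Agent.Lib.Fischer.M23Recog.Cert.Search
import Cfsg.Agent.Lib.Fischer.M23Recog.Cert.Good
import Cfsg.Agent.Lib.Fischer.M23Recog.Cert.Mirror

/-! All certificates for the local structure of type M(23). -/
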