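import Cfsg.Agent.Lib.Fischer.M23Recog.Cert.Sets

/-! Generated certificate for the local structure of type M(23): the counts at a second centre. -/

set_option autoImplicit false
set_option maxRecDepth 20000
set_option linter.all false
set_option Elab.async false

namespace CfsgLib.Fischer.M23Recog.Cert

open CfsgLib.SporRecognition.CosetCert
open CfsgLib.SporRecognition.FischerAut
open CfsgLib.SporRecognition.Cert

def SA : Nat := 0x0
theorem gAmem : (inSet KA 29) = true := by decide +kernel
noncomputable def ysA : List ((Nat → Nat) × Nat) := [(w8, 8), (w22, 22), (w36, 36), (w71, 71), (w95, 95), (w281, 281), (w351, 351), (w362, 362), (w417, 417), (w464, 464), (w585, 585), (w623, 623), (w1390, 1390), (w1713, 1713)]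
def ysApts : List Nat := [8, 22, 36, 71, 95, 281, 351, 362, 417, 464, 585, 623, 1390, 1713]
theorem ysAmem : ysApts.Nodup ∧ (ysApts.all fun y => inSet KA y && Nat.beq (w29 y) y && !(Nat.beq y 29)) = true := by decide +kernel
theorem FA8 : (KAlist.filter fun u => Nat.beq (w29 u) u && !(Nat.beq u 29) && (Nat.beq (w8 u) u && !(Nat.beq u 8))).length = 12 := by decide +kernel
theorem FA22 : (KAlist.filter fun u => Nat.beq (w29 u) u && !(Nat.beq u 29) && (Nat.beq (w22 u) u && !(Nat.beq u 22))).length = 12 := by decide +kernel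
theorem FA36 : (KAlist.filter fun u => Nat.beq (w29 u) u && !(Nat.beq u 29) && (Nat.beq (w36 u) u && !(Nat.beq u 36))).length = 12 := by decide +kernel
theorem FA71 : (KAlist.filter fun u => Nat.beq (w29 u) u && !(Nat.beq u 29) && (Nat.beq (w71 u) u && !(Nat.beq u 71))).length = 12 := by decide +kernel
theorem FA95 : (KAlist.filter fun u => Nat.beq (w29 u) u && !(Nat.beq u 29) && (Nat.beq (w95 u) u && !(Nat.beq u 95))).length = 12 := by decide +kernel
theorem FA281 : (KAlist.filter fun u => Nat.beq (w29 u) u && !(Nat.beq u 29) && (Nat.beq (w281 u) u && !(Nat.beq u 281))).length = 12 := by decide +kernel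
theorem FA351 : (KAlist.filter fun u => Nat.beq (w29 u) u && !(Nat.beq u 29) && (Nat.beq (w351 u) u && !(Nat.beq u 351))).length = 12 := by decide +kernel
theorem FA362 : (KAlist.filter fun u => Nat.beq (w29 u) u && !(Nat.beq u 29) && (Nat.beq (w362 u) u && !(Nat.beq u 362))).length = 12 := by decide +kernel
theorem FA417 : (KAlist.filter fun u => Nat.beq (w29 u) u && !(Nat.beq u 29) && (Nat.beq (w417 u) u && !(Nat.beq u 417))).length = 12 := by decide +kernel
theorem FA464 : (KAlist.filter fun u => Nat.beq (w29 u) u && !(Nat.beq u 29) && (Nat.beq (w464 u) u && !(Nat.beq u 464))).length = 12 := by decide +kernel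
theorem FA585 : (KAlist.filter fun u => Nat.beq (w29 u) u && !(Nat.beq u 29) && (Nat.beq (w585 u) u && !(Nat.beq u 585))).length = 12 := by decide +kernel
theorem FA623 : (KAlist.filter fun u => Nat.beq (w29 u) u && !(Nat.beq u 29) && (Nat.beq (w623 u) u && !(Nat.beq u 623))).length = 12 := by decide +kernel
theorem FA1390 : (KAlist.filter fun u => Nat.beq (w29 u) u && !(Nat.beq u 29) && (Nat.beq (w1390 u) u && !(Nat.beq u 1390))).length = 12 := by decide +kernel
theorem FA1713 : (KAlist.filter fun u => Nat.beq (w29 u) u && !(Nat.beq u 29) && (Nat.beq (w1713 u) u && !(Nat.beq u 1713))).length = 12 := by decide +kernel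
def excA : List Nat := [39, 62, 96, 121, 149, 184, 231, 287, 366, 396, 462, 505, 766, 905, 927, 960, 1075, 1081, 1133, 1140, 1258, 1317, 2082, 2320, 2330, 2575]
theorem excAok_c0 : allPow 3510 (excStep w6 6 w29 29 SA ysA 5 excA) 11 0 = true := by decide +kernel
theorem excAok_c1 : allPow 3510 (excStep w6 6 w29 29 SA ysA 5 excA) 11 2048 = true := by decide +kernel
theorem excAok : allBelow 12 3510 (excStep w6 6 w29 29 SA ysA 5 excA) = true :=
  allBelow_of_upto (hi := 4096)
    (Upto.trans (mid := 2048) ((Upto.of_pow excAok_c0 (Nat.le_refl _)) : Upto _ _ 0 (0 + 2 ^ 11))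
    ((Upto.of_pow excAok_c1 (Nat.le_refl _)) : Upto _ _ 2048 (2048 + 2 ^ 11)))
    (by decide) (by decide)

theorem excAsum : (excA.map fun u => fixCount ysA u - 5).sum = 42 := by decide +kernel
theorem excAnodup : excA.Nodup := by decide +kernel
def SB : Nat := 0x7e000000000000000000000000000000000000000037bff000000000000000000000000000000000000033e7dff000000000000000000000000000000000f2ff7bf80000000000000000000000000000bef7bdff000000000000000000000000d6f5ef7fff800000000000000000006ddfdffff0000000000000007effffd800000000001ffffee00000000fffff0000007fffc0000ffff0003fff801fff807fffe03ffff07fff87fc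
theorem gBmem : (inSet KB 2) = true := by decide +kernel
noncomputable def ysB : List ((Nat → Nat) × Nat) := [(w8, 8), (w22, 22), (w71, 71), (w87, 87), (w94, 94), (w95, 95), (w140, 140), (w281, 281), (w351, 351)]
def ysBpts : List Nat := [8, 22, 71, 87, 94, 95, 140, 281, 351]
theorem ysBmem : ysBpts.Nodup ∧ (ysBpts.all fun y => inSet KB y && Nat.beq (w2 y) y && !(Nat.beq y 2)) = true := by decide +kernel
theorem FB8 : (KBlist.filter fun u => Nat.beq (w2 u) u && !(Nat.beq u 2) && (Nat.beq (w8 u) u && !(Nat.beq u 8))).length = 12 := by decide +kernel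
theorem FB22 : (KBlist.filter fun u => Nat.beq (w2 u) u && !(Nat.beq u 2) && (Nat.beq (w22 u) u && !(Nat.beq u 22))).length = 12 := by decide +kernel
theorem FB71 : (KBlist.filter fun u => Nat.beq (w2 u) u && !(Nat.beq u 2) && (Nat.beq (w71 u) u && !(Nat.beq u 71))).length = 12 := by decide +kernel
theorem FB87 : (KBlist.filter fun u => Nat.beq (w2 u) u && !(Nat.beq u 2) && (Nat.beq (w87 u) u && !(Nat.beq u 87))).length = 12 := by decide +kernel
theorem FB94 : (KBlist.filter fun u => Nat.beq (w2 u) u && !(Nat.beq u 2) && (Nat.beq (w94 u) u && !(Nat.beq u 94))).length = 12 := by decide +kernel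
theorem FB95 : (KBlist.filter fun u => Nat.beq (w2 u) u && !(Nat.beq u 2) && (Nat.beq (w95 u) u && !(Nat.beq u 95))).length = 12 := by decide +kernel
theorem FB140 : (KBlist.filter fun u => Nat.beq (w2 u) u && !(Nat.beq u 2) && (Nat.beq (w140 u) u && !(Nat.beq u 140))).length = 12 := by decide +kernel
theorem FB281 : (KBlist.filter fun u => Nat.beq (w2 u) u && !(Nat.beq u 2) && (Nat.beq (w281 u) u && !(Nat.beq u 281))).length = 12 := by decide +kernel
theorem FB351 : (KBlist.filter fun u => Nat.beq (w2 u) u && !(Nat.beq u 2) && (Nat.beq (w351 u) u && !(Nat.beq u 351))).length = 12 := by decide +kernel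
def excB : List Nat := [13, 14, 237, 297, 368, 463, 468, 542, 588, 589, 679, 718, 978, 1069, 1102, 1158, 1242, 1248, 1341, 1420, 1466, 1570, 1659, 1748, 1872, 1946, 2105, 2182, 3275, 3402]
theorem excBok_c0 : allPow 3510 (excStep w6 6 w2 2 SB ysB 3 excB) 11 0 = true := by decide +kernel
theorem excBok_c1 : allPow 3510 (excStep w6 6 w2 2 SB ysB 3 excB) 11 2048 = true := by decide +kernel
theorem excBok : allBelow 12 3510 (excStep w6 6 w2 2 SB ysB 3 excB) = true :=
  allBelow_of_upto (hi := 4096)
    (Upto.trans (mid := 2048) ((Upto.of_pow excBok_c0 (Nat.le_refl _)) : Upto _ _ 0 (0 + 2 ^ 11))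
    ((Upto.of_pow excBok_c1 (Nat.le_refl _)) : Upto _ _ 2048 (2048 + 2 ^ 11)))
    (by decide) (by decide)

theorem excBsum : (excB.map fun u => fixCount ysB u - 3).sum = 36 := by decide +kernel
theorem excBnodup : excB.Nodup := by decide +kernel
def SC : Nat := 0xbe00000000000000000000000000000053c000000002bfc0000000000000000000000000c0003ef8000001ff0000000000000000b80000003c003ef00003f8000000000000401ef000001f007f001f8000802f000000300fe00061e0f807e000601fc0000383e00d9c703c00707c0041c701e660e20e38111660f4c68b3049a63a6cd31269b59a684d7535456f5b4b79bb54bf7ddffffffffff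
theorem gCmem : (inSet KC 2) = true := by decide +kernel
noncomputable def ysC : List ((Nat → Nat) × Nat) := [(w8, 8), (w22, 22), (w497, 497), (w35, 35), (w64, 64), (w87, 87), (w95, 95), (w191, 191), (w351, 351)]
def ysCpts : List Nat := [8, 22, 497, 35, 64, 87, 95, 191, 351]
theorem ysCmem : ysCpts.Nodup ∧ (ysCpts.all fun y => inSet KC y && Nat.beq (w2 y) y && !(Nat.beq y 2)) = true := by decide +kernel
theorem FC8 : (KClist.filter fun u => Nat.beq (w2 u) u && !(Nat.beq u 2) && (Nat.beq (w8 u) u && !(Nat.beq u 8))).length = 12 := by decide +kernel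
theorem FC22 : (KClist.filter fun u => Nat.beq (w2 u) u && !(Nat.beq u 2) && (Nat.beq (w22 u) u && !(Nat.beq u 22))).length = 12 := by decide +kernel
theorem FC497 : (KClist.filter fun u => Nat.beq (w2 u) u && !(Nat.beq u 2) && (Nat.beq (w497 u) u && !(Nat.beq u 497))).length = 12 := by decide +kernel
theorem FC35 : (KClist.filter fun u => Nat.beq (w2 u) u && !(Nat.beq u 2) && (Nat.beq (w35 u) u && !(Nat.beq u 35))).length = 12 := by decide +kernel
theorem FC64 : (KClist.filter fun u => Nat.beq (w2 u) u && !(Nat.beq u 2) && (Nat.beq (w64 u) u && !(Nat.beq u 64))).length = 12 := by decide +kernel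
theorem FC87 : (KClist.filter fun u => Nat.beq (w2 u) u && !(Nat.beq u 2) && (Nat.beq (w87 u) u && !(Nat.beq u 87))).length = 12 := by decide +kernel
theorem FC95 : (KClist.filter fun u => Nat.beq (w2 u) u && !(Nat.beq u 2) && (Nat.beq (w95 u) u && !(Nat.beq u 95))).length = 12 := by decide +kernel
theorem FC191 : (KClist.filter fun u => Nat.beq (w2 u) u && !(Nat.beq u 2) && (Nat.beq (w191 u) u && !(Nat.beq u 191))).length = 12 := by decide +kernel
theorem FC351 : (KClist.filter fun u => Nat.beq (w2 u) u && !(Nat.beq u 2) && (Nat.beq (w351 u) u && !(Nat.beq u 351))).length = 12 := by decide +kernel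
def excC : List Nat := [63, 88, 147, 177, 183, 213, 227, 266, 343, 431, 542, 547, 679, 680, 693, 715, 768, 833, 858, 930, 931, 1030, 1110, 1193, 1236, 1336, 1339, 1410, 1433, 1453, 1465, 1515, 1622, 1644, 1673, 1872, 1884, 2105, 2238, 2468, 3162, 3274]
theorem excCok_c0 : allPow 3510 (excStep w6 6 w2 2 SC ysC 3 excC) 11 0 = true := by decide +kernel
theorem excCok_c1 : allPow 3510 (excStep w6 6 w2 2 SC ysC 3 excC) 11 2048 = true := by decide +kernel
theorem excCok : allBelow 12 3510 (excStep w6 6 w2 2 SC ysC 3 excC) = true :=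
  allBelow_of_upto (hi := 4096)
    (Upto.trans (mid := 2048) ((Upto.of_pow excCok_c0 (Nat.le_refl _)) : Upto _ _ 0 (0 + 2 ^ 11))
    ((Upto.of_pow excCok_c1 (Nat.le_refl _)) : Upto _ _ 2048 (2048 + 2 ^ 11)))
    (by decide) (by decide)

theorem excCsum : (excC.map fun u => fixCount ysC u - 3).sum = 46 := by decide +kernel
theorem excCnodup : excC.Nodup := by decide +kernel

end CfsgLib.Fischer.M23Recog.Cert
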