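import Cfsg.Agent.Lib.Fischer.M23Recog.Cert.Defs

/-! Generated certificate for the local structure of type M(23): points. -/

set_option autoImplicit false
set_option maxRecDepth 20000
set_option linter.all false
set_option Elab.async false

namespace CfsgLib.Fischer.M23Recog.Cert

open CfsgLib.SporRecognition.CosetCert
open CfsgLib.SporRecognition.FischerAut
open CfsgLib.SporRecognition.Cert

def q0 : Fin 3510 := ⟨0, by decide⟩
def q2 : Fin 3510 := ⟨2, by decide⟩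
def q4 : Fin 3510 := ⟨4, by decide⟩
def q6 : Fin 3510 := ⟨6, by decide⟩
def q38 : Fin 3510 := ⟨38, by decide⟩
def q87 : Fin 3510 := ⟨87, by decide⟩
def q140 : Fin 3510 := ⟨140, by decide⟩
def q19 : Fin 3510 := ⟨19, by decide⟩
def q64 : Fin 3510 := ⟨64, by decide⟩
def q5 : Fin 3510 := ⟨5, by decide⟩
def q16 : Fin 3510 := ⟨16, by decide⟩
def q18 : Fin 3510 := ⟨18, by decide⟩
def q8 : Fin 3510 := ⟨8, by decide⟩
def q17 : Fin 3510 := ⟨17, by decide⟩
def q29 : Fin 3510 := ⟨29, by decide⟩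
def q12 : Fin 3510 := ⟨12, by decide⟩
def q10 : Fin 3510 := ⟨10, by decide⟩
def q26 : Fin 3510 := ⟨26, by decide⟩
def q47 : Fin 3510 := ⟨47, by decide⟩
def q71 : Fin 3510 := ⟨71, by decide⟩
def q35 : Fin 3510 := ⟨35, by decide⟩
def q95 : Fin 3510 := ⟨95, by decide⟩
def q80 : Fin 3510 := ⟨80, by decide⟩
def q101 : Fin 3510 := ⟨101, by decide⟩
def q126 : Fin 3510 := ⟨126, by decide⟩
def q156 : Fin 3510 := ⟨156, by decide⟩
def q191 : Fin 3510 := ⟨191, by decide⟩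
def q236 : Fin 3510 := ⟨236, by decide⟩
def q294 : Fin 3510 := ⟨294, by decide⟩
def q368 : Fin 3510 := ⟨368, by decide⟩
def q464 : Fin 3510 := ⟨464, by decide⟩
def q37 : Fin 3510 := ⟨37, by decide⟩
def q158 : Fin 3510 := ⟨158, by decide⟩
def q197 : Fin 3510 := ⟨197, by decide⟩
def q246 : Fin 3510 := ⟨246, by decide⟩
def q309 : Fin 3510 := ⟨309, by decide⟩
def q390 : Fin 3510 := ⟨390, by decide⟩
def q497 : Fin 3510 := ⟨497, by decide⟩
def q209 : Fin 3510 := ⟨209, by decide⟩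
def q184 : Fin 3510 := ⟨184, by decide⟩
def q228 : Fin 3510 := ⟨228, by decide⟩
def q286 : Fin 3510 := ⟨286, by decide⟩
def q358 : Fin 3510 := ⟨358, by decide⟩
def q455 : Fin 3510 := ⟨455, by decide⟩
def q574 : Fin 3510 := ⟨574, by decide⟩
def q707 : Fin 3510 := ⟨707, by decide⟩
def q855 : Fin 3510 := ⟨855, by decide⟩
def q1009 : Fin 3510 := ⟨1009, by decide⟩
def q1173 : Fin 3510 := ⟨1173, by decide⟩
def q229 : Fin 3510 := ⟨229, by decide⟩
def q281 : Fin 3510 := ⟨281, by decide⟩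
def q623 : Fin 3510 := ⟨623, by decide⟩
def q585 : Fin 3510 := ⟨585, by decide⟩
def q715 : Fin 3510 := ⟨715, by decide⟩
def q858 : Fin 3510 := ⟨858, by decide⟩
def q1016 : Fin 3510 := ⟨1016, by decide⟩
def q1187 : Fin 3510 := ⟨1187, by decide⟩
def q1357 : Fin 3510 := ⟨1357, by decide⟩
def q1530 : Fin 3510 := ⟨1530, by decide⟩
def q22 : Fin 3510 := ⟨22, by decide⟩
def q370 : Fin 3510 := ⟨370, by decide⟩
def q94 : Fin 3510 := ⟨94, by decide⟩
def q351 : Fin 3510 := ⟨351, by decide⟩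
def q498 : Fin 3510 := ⟨498, by decide⟩
def q629 : Fin 3510 := ⟨629, by decide⟩
def q777 : Fin 3510 := ⟨777, by decide⟩
def q921 : Fin 3510 := ⟨921, by decide⟩
def q1098 : Fin 3510 := ⟨1098, by decide⟩
def q36 : Fin 3510 := ⟨36, by decide⟩
def q362 : Fin 3510 := ⟨362, by decide⟩
def q417 : Fin 3510 := ⟨417, by decide⟩
def q1272 : Fin 3510 := ⟨1272, by decide⟩
def q1390 : Fin 3510 := ⟨1390, by decide⟩
def q1713 : Fin 3510 := ⟨1713, by decide⟩

noncomputable def w0 : Nat → Nat := Fi22U.tabs .a true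
theorem tw0 : Tabled Fi22Conf.τ Fi22Conf.σ q0 w0 := tabled_gen _ _ Fi22Conf.tau_a
noncomputable def w2 : Nat → Nat := Fi22U.tabs .b true
theorem tw2 : Tabled Fi22Conf.τ Fi22Conf.σ q2 w2 := tabled_gen _ _ Fi22Conf.tau_b
noncomputable def w4 : Nat → Nat := Fi22U.tabs .c true
theorem tw4 : Tabled Fi22Conf.τ Fi22Conf.σ q4 w4 := tabled_gen _ _ Fi22Conf.tau_c
noncomputable def w6 : Nat → Nat := Fi22U.tabs .d true
theorem tw6 : Tabled Fi22Conf.τ Fi22Conf.σ q6 w6 := tabled_gen _ _ Fi22Conf.tau_d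
noncomputable def w38 : Nat → Nat := Fi22U.tabs .e true
theorem tw38 : Tabled Fi22Conf.τ Fi22Conf.σ q38 w38 := tabled_gen _ _ Fi22Conf.tau_e
noncomputable def w87 : Nat → Nat := Fi22U.tabs .f true
theorem tw87 : Tabled Fi22Conf.τ Fi22Conf.σ q87 w87 := tabled_gen _ _ Fi22Conf.tau_f
noncomputable def w140 : Nat → Nat := Fi22U.tabs .g true
theorem tw140 : Tabled Fi22Conf.τ Fi22Conf.σ q140 w140 := tabled_gen _ _ Fi22Conf.tau_g
noncomputable def w19 : Nat → Nat := Fi22U.tabs .h true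
theorem tw19 : Tabled Fi22Conf.τ Fi22Conf.σ q19 w19 := tabled_gen _ _ Fi22Conf.tau_h
noncomputable def w64 : Nat → Nat := Fi22U.tabs .i true
theorem tw64 : Tabled Fi22Conf.τ Fi22Conf.σ q64 w64 := tabled_gen _ _ Fi22Conf.tau_i

end CfsgLib.Fischer.M23Recog.Cert
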